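import Groth.Agent.Lib.RelProjK.OpenMap
import Mathlib.AlgebraicGeometry.Modules.Sheaf

/-!
# Sections of twists and their adjunct along an open immersion of homogeneous spectra
-/

set_option autoImplicit false
set_option linter.all false
set_option backward.isDefEq.respectTransparency false

universe u

open CategoryTheory AlgebraicGeometry TopologicalSpace Opposite
open scoped HomogeneousIdeal

noncomputable section

namespace GrothLib.TwistAdj10

/-- The adjunct along an open immersion of a map bijective on the sections over images is an isomorphism. -/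
theorem isIso_adjunct {X Y : Scheme.{u}} (f : X ⟶ Y) [IsOpenImmersion f] {M : Y.Modules} {N : X.Modules}
    (φ : M ⟶ (Scheme.Modules.pushforward f).obj N)
    (h : ∀ V : X.Opens, Function.Bijective fun m : Γ(M, f ''ᵁ V) =>
      N.presheaf.map (eqToHom (f.preimage_image_eq V).symm).op (φ.app (f ''ᵁ V) m)) :
    IsIso (((Scheme.Modules.pullbackPushforwardAdjunction f).homEquiv M N).symm φ) := by
  have h1 : IsIso (((Scheme.Modules.restrictAdjunction f).homEquiv M N).symm φ) := by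
    rw [Scheme.Modules.Hom.isIso_iff_isIso_app]
    intro V
    rw [ConcreteCategory.isIso_iff_bijective]
    refine Eq.mp (congrArg Function.Bijective ?_) (h V)
    funext m
    rw [Adjunction.homEquiv_counit]
    rfl
  have h2 : ((Scheme.Modules.restrictAdjunction f).homEquiv M N).symm φ =
      ((Scheme.Modules.restrictAdjunction f).leftAdjointUniq
        (Scheme.Modules.pullbackPushforwardAdjunction f)).hom.app M ≫
        ((Scheme.Modules.pullbackPushforwardAdjunction f).homEquiv M N).symm φ := by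
    rw [Adjunction.homEquiv_counit, Adjunction.homEquiv_counit, ← Category.assoc,
      ← NatTrans.naturality, Category.assoc, Adjunction.leftAdjointUniq_hom_app_counit]
  rw [h2] at h1
  exact IsIso.of_isIso_comp_left (((Scheme.Modules.restrictAdjunction f).leftAdjointUniq
    (Scheme.Modules.pullbackPushforwardAdjunction f)).hom.app M) _

variable {A B : Type u} [CommRing A] [CommRing B] {σ τ : Type u} [SetLike σ A] [AddSubgroupClass σ A]
  [SetLike τ B] [AddSubgroupClass τ B] {𝒜 : ℕ → σ} {ℬ : ℕ → τ} [GradedRing 𝒜] [GradedRing ℬ]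
  (ψ : 𝒜 →+*ᵍ ℬ) (hψ : ℬ₊ ≤ (𝒜₊).map ψ)

/-- `f` inverts the homomorphism. -/
def Good (e : ℕ) (f : A) : Prop :=
  f ∈ 𝒜 e ∧ (∀ (i : ℕ), ∀ b ∈ ℬ i, ∃ (k : ℕ) (a : A), a ∈ 𝒜 (k • e + i) ∧ ψ a = ψ f ^ k * b) ∧
    ∀ a : A, ψ a = 0 → ∃ k : ℕ, f ^ k * a = 0

variable {ψ} {e : ℕ} {f : A}

theorem Good.exists_num (hf : Good ψ e f) (b : B) : ∃ (k : ℕ) (a : A), ψ a = ψ f ^ k * b := by
  induction b using DirectSum.Decomposition.inductionOn ℬ with
  | zero => exact ⟨0, 0, by simp⟩
  | homogeneous b => exact (hf.2.1 _ b b.2).imp fun k ⟨a, _, h⟩ => ⟨a, h⟩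
  | add b b' hb hb' =>
    obtain ⟨k, a, ha⟩ := hb
    obtain ⟨l, a', ha'⟩ := hb'
    exact ⟨k + l, f ^ l * a + f ^ k * a', by simp only [map_add, map_mul, map_pow, ha, ha', pow_add]; ring⟩

theorem Good.bijective_locMap (hf : Good ψ e f) (y : ProjectiveSpectrum ℬ) (hy : ψ f ∉ y.asHomogeneousIdeal) :
    Function.Bijective (GrTwist.locMap ψ hψ y) := by
  constructor
  · intro p q hpq
    induction p using Localization.induction_on with
    | H p => induction q using Localization.induction_on with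
      | H q =>
        obtain ⟨a, s⟩ := p
        obtain ⟨b, t⟩ := q
        rw [GrTwist.locMap_mk, GrTwist.locMap_mk, Localization.mk_eq_mk_iff, Localization.r_iff_exists] at hpq
        obtain ⟨⟨v, hv⟩, hvv⟩ := hpq
        obtain ⟨k, v', hv'⟩ := hf.exists_num v
        have h0 : ψ (v' * ((t : A) * a - (s : A) * b)) = 0 := by
          have hvv' : v * (ψ (t : A) * ψ a) = v * (ψ (s : A) * ψ b) := hvv
          rw [map_mul, map_sub, map_mul, map_mul, hv', mul_assoc, mul_sub, hvv', sub_self, mul_zero]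
        obtain ⟨m, hm⟩ := hf.2.2 _ h0
        have hmem : f ^ m * v' ∈ (ProjectiveSpectrum.comap ψ hψ y).asHomogeneousIdeal.toIdeal.primeCompl := by
          intro hmem
          have hmem' : ψ (f ^ m * v') ∈ y.asHomogeneousIdeal.toIdeal := hmem
          rw [map_mul, map_pow, hv', ← mul_assoc, ← pow_add] at hmem'
          rcases y.isPrime.mem_or_mem hmem' with h | h
          · exact hy (y.isPrime.mem_of_pow_mem _ h)
          · exact hv h
        rw [Localization.mk_eq_mk_iff, Localization.r_iff_exists]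
        exact ⟨⟨_, hmem⟩, sub_eq_zero.mp (by
          show f ^ m * v' * ((t : A) * a) - f ^ m * v' * ((s : A) * b) = 0
          rw [← hm]; ring)⟩
  · intro q
    induction q using Localization.induction_on with
    | H q =>
      obtain ⟨b, ⟨t, ht⟩⟩ := q
      obtain ⟨k, a, ha⟩ := hf.exists_num b
      obtain ⟨l, t', ht'⟩ := hf.exists_num t
      have hmem : f ^ k * t' ∈ (ProjectiveSpectrum.comap ψ hψ y).asHomogeneousIdeal.toIdeal.primeCompl := by
        intro hmem
        have hmem' : ψ (f ^ k * t') ∈ y.asHomogeneousIdeal.toIdeal := hmem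
        rw [map_mul, map_pow, ht', ← mul_assoc, ← pow_add] at hmem'
        rcases y.isPrime.mem_or_mem hmem' with h | h
        · exact hy (y.isPrime.mem_of_pow_mem _ h)
        · exact ht h
      refine ⟨Localization.mk (f ^ l * a) ⟨f ^ k * t', hmem⟩, ?_⟩
      rw [GrTwist.locMap_mk, Localization.mk_eq_mk_iff, Localization.r_iff_exists]
      refine ⟨1, ?_⟩
      simp only [OneMemClass.coe_one, one_mul, map_mul, map_pow, ha, ht']
      ring

/-- Sections of a twist over an open inside the spectrum are those downstairs. -/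
theorem bijective_comapApp [IsOpenImmersion (Proj.map ψ hψ)] (n : ℤ)
    (hgood : ∀ y : ProjectiveSpectrum ℬ, ∃ (e : ℕ) (f : A), Good ψ e f ∧ ψ f ∉ y.asHomogeneousIdeal)
    (U : Opens (ProjectiveSpectrum.top 𝒜)) (V : Opens (ProjectiveSpectrum.top ℬ))
    (hUV : ∀ y : ProjectiveSpectrum ℬ, y ∈ V ↔ ProjectiveSpectrum.comap ψ hψ y ∈ U)
    (hU : ∀ x ∈ U, ∃ y : ProjectiveSpectrum ℬ, ProjectiveSpectrum.comap ψ hψ y = x) :
    Function.Bijective (GrTwist.comapApp ψ hψ n U V (fun y hy => (hUV y).mp hy)) := by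
  have hbij : ∀ y, Function.Bijective (GrTwist.locMap ψ hψ y) := fun y => by
    obtain ⟨e, f, hf, hfy⟩ := hgood y
    exact hf.bijective_locMap hψ y hfy
  constructor
  · intro s t hst
    refine Subtype.ext (funext fun x => Subtype.ext ?_)
    obtain ⟨x, hx⟩ := x
    obtain ⟨y, rfl⟩ := hU x hx
    refine (hbij y).1 ?_
    exact congrArg (fun w => ((w : GrTwist.sectN (𝒜 := ℬ) n (op V)).1 ⟨y, (hUV y).mpr hx⟩ : GrTwist.Loc ℬ y)) hst
  · intro t
    have hinj : Function.Injective (ProjectiveSpectrum.comap ψ hψ) :=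
      (Proj.map ψ hψ).isOpenEmbedding.injective
    have hex : ∀ x : U, ∃ q : GrTwist.Loc 𝒜 x.1, ∀ (y : ProjectiveSpectrum ℬ) (hy : ProjectiveSpectrum.comap ψ hψ y = x.1),
        GrTwist.locMap ψ hψ y (hy ▸ q) =
          (t.1 ⟨y, (hUV y).mpr (hy.symm ▸ x.2)⟩ : GrTwist.Loc ℬ y) := by
      rintro ⟨x, hx⟩
      obtain ⟨y, rfl⟩ := hU x hx
      obtain ⟨q, hq⟩ := (hbij y).2 (t.1 ⟨y, (hUV y).mpr hx⟩ : GrTwist.Loc ℬ y)
      refine ⟨q, fun y' hy' => ?_⟩
      obtain rfl := hinj hy'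
      exact hq
    choose q hq using hex
    have hrep : ∀ x : U, ∃ (W : Opens (ProjectiveSpectrum.top 𝒜)) (_ : x.1 ∈ W) (hW : W ≤ U) (i j : ℕ)
        (a : 𝒜 i) (s : 𝒜 j) (nin : ∀ w : W, (s : A) ∉ w.1.asHomogeneousIdeal),
        ((i : ℤ) = j + n ∨ (a : A) = 0) ∧
          ∀ w : W, q ⟨w.1, hW w.2⟩ = Localization.mk (a : A) ⟨s, nin w⟩ := by
      rintro ⟨x, hx⟩
      obtain ⟨y, rfl⟩ := hU x hx
      obtain ⟨e, f, hf, hfy⟩ := hgood y
      have ht : (GrTwist.isLocFracN ℬ n).pred t.1 := t.2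
      obtain ⟨W, hW, iW, i, j, ⟨b, hb⟩, ⟨u, hu⟩, nin, hd, hw⟩ := ht ⟨y, (hUV y).mpr hx⟩
      obtain ⟨k, a, ha, hka, hd'⟩ : ∃ (k : ℕ) (a : A), a ∈ 𝒜 (k • e + i) ∧ ψ a = ψ f ^ k * b ∧
          ((i : ℤ) = j + n ∨ a = 0) := by
        rcases hd with h | h
        · obtain ⟨k, a, ha, hka⟩ := hf.2.1 i b hb
          exact ⟨k, a, ha, hka, Or.inl h⟩
        · exact ⟨0, 0, zero_mem _, by simp [show b = 0 from h], Or.inr rfl⟩
      obtain ⟨l, u', hu', hlu⟩ := hf.2.1 j u hu
      let W₁ : Opens (ProjectiveSpectrum.top ℬ) := W ⊓ Proj.basicOpen ℬ (ψ f)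
      let W' : Opens (ProjectiveSpectrum.top 𝒜) :=
        (⟨ProjectiveSpectrum.comap ψ hψ '' (show Set (ProjectiveSpectrum ℬ) from (W₁ : Set (ProjectiveSpectrum.top ℬ))),
          (Proj.map ψ hψ).isOpenEmbedding.isOpenMap (W₁ : Set (ProjectiveSpectrum.top ℬ)) W₁.2⟩ :
          Opens (ProjectiveSpectrum.top 𝒜))
      have hW' : W' ≤ U := by
        rintro _ ⟨z, hz, rfl⟩
        exact (hUV z).mp (leOfHom iW hz.1)
      have nin' : ∀ w : W', f ^ k * u' ∉ w.1.asHomogeneousIdeal := by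
        rintro ⟨_, z, hz, rfl⟩ hmem
        have hmem' : ψ (f ^ k * u') ∈ z.asHomogeneousIdeal.toIdeal := hmem
        rw [map_mul, map_pow, hlu, ← mul_assoc, ← pow_add] at hmem'
        rcases z.isPrime.mem_or_mem hmem' with h | h
        · exact hz.2 (z.isPrime.mem_of_pow_mem _ h)
        · exact nin ⟨z, hz.1⟩ h
      refine ⟨W', ⟨y, ⟨hW, hfy⟩, rfl⟩, hW', l • e + (k • e + i), k • e + (l • e + j),
        ⟨f ^ l * a, SetLike.mul_mem_graded (SetLike.pow_mem_graded l hf.1) ha⟩,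
        ⟨f ^ k * u', SetLike.mul_mem_graded (SetLike.pow_mem_graded k hf.1) hu'⟩, nin', ?_, ?_⟩
      · refine hd'.imp (fun h => ?_) fun h => show f ^ l * a = 0 by rw [h, mul_zero]
        push_cast
        rw [h]
        ring
      · rintro ⟨_, z, hz, rfl⟩
        refine (hbij z).1 ?_
        refine (hq ⟨_, hW' ⟨z, hz, rfl⟩⟩ z rfl).trans ?_
        refine (hw ⟨z, hz.1⟩).trans ?_
        rw [GrTwist.locMap_mk, Localization.mk_eq_mk_iff, Localization.r_iff_exists]
        refine ⟨1, ?_⟩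
        simp only [OneMemClass.coe_one, one_mul, map_mul, map_pow, hka, hlu]
        ring
    have hmem : ∀ x : U, q x ∈ GrTwist.twistAt 𝒜 n x.1 := fun x => by
      obtain ⟨W, hxW, hW, i, j, a, s, nin, hd, hval⟩ := hrep x
      rw [show q x = _ from hval ⟨x.1, hxW⟩]
      rcases hd with h | h
      · exact Submodule.subset_span ⟨i, j, a, s, nin ⟨x.1, hxW⟩, h, rfl⟩
      · rw [h, Localization.mk_zero]; exact zero_mem _
    refine ⟨⟨fun x => ⟨q x, hmem x⟩, fun x => ?_⟩, ?_⟩
    · obtain ⟨W, hxW, hW, i, j, a, s, nin, hd, hval⟩ := hrep x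
      exact ⟨W, hxW, homOfLE hW, i, j, a, s, nin, hd, hval⟩
    · exact Subtype.ext (funext fun y => Subtype.ext (hq ⟨_, (hUV y.1).mp y.2⟩ y.1 rfl))

/-- The adjunct of the canonical map of twists is an isomorphism. -/
theorem isIso_twist_adjunct [IsOpenImmersion (Proj.map ψ hψ)] (n : ℤ)
    (hgood : ∀ y : ProjectiveSpectrum ℬ, ∃ (e : ℕ) (f : A), Good ψ e f ∧ ψ f ∉ y.asHomogeneousIdeal) :
    IsIso (((Scheme.Modules.pullbackPushforwardAdjunction (Proj.map ψ hψ)).homEquiv _ _).symm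
      (GrTwist.comap ψ hψ n)) := by
  refine isIso_adjunct (Proj.map ψ hψ) _ fun V => ?_
  have hUV : ∀ y : ProjectiveSpectrum ℬ, y ∈ V ↔
      ProjectiveSpectrum.comap ψ hψ y ∈ (Proj.map ψ hψ) ''ᵁ V := fun y =>
    ⟨fun hy => ⟨y, hy, rfl⟩, fun ⟨y', hy', he⟩ => (Proj.map ψ hψ).isOpenEmbedding.injective he ▸ hy'⟩
  refine Eq.mp (congrArg Function.Bijective ?_)
    (bijective_comapApp hψ n hgood ((Proj.map ψ hψ) ''ᵁ V) V hUV fun x ⟨y, _, he⟩ => ⟨y, he⟩)
  funext m
  rfl

end GrothLib.TwistAdj10
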